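import Cfsg.Agent.Lib.Recog.SporBound.Sound
import Cfsg.Agent.Lib.Recog.SporBound.UsixA.Tree0

set_option autoImplicit false
set_option maxRecDepth 20000

/-! Generated closure certificate: generators and relators for the multiplier of PSU(6,2) (owner: lead). -/

namespace CfsgLib.Recog.SporBound.UsixA
open CfsgLib.Recog.SporBound

noncomputable def factTree : Q (ℕ) := ft0
noncomputable def nodeTree : Q (ℕ) := ct0
noncomputable def stepTree : Q (List ℕ) := st0
noncomputable def finalTree : Q (List ℕ) := (.node et0 et1 et2 (.leaf []))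

/-- The certificate. -/
noncomputable def cert : Cert where
  n := 54
  nd := 53
  nf := 81
  kl := [1, 5, 7]
  facts := factTree
  cn := nodeTree
  steps := stepTree
  finals := finalTree
  rels := [[1, 1], [5, 5], [7, 7], [1, 5, 1, 5, 1, 5], [1, 7, 1, 7, 1, 7], [5, 7, 5, 7, 5, 7], [7, 5, 1, 5, 7, 5, 1, 5, 7, 5, 1, 5]]
  subs := []

/-- Chains of the traced words. -/
noncomputable def closers : List ℕ := []

end CfsgLib.Recog.SporBound.UsixA
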